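import Mathlib

set_option linter.unusedSectionVars false
set_option linter.unusedVariables false
set_option linter.unusedSimpArgs false
set_option autoImplicit false
set_option linter.style.haveILetI false
set_option maxHeartbeats 400000

universe u

noncomputable section

namespace Groth.Agent.Helper6.Deligne

open CategoryTheory CategoryTheory.Limits ConcreteCategory

variable {C : Type u} [SmallCategory C] {D : ℕ ⥤ (C ⥤ Type u)} {c : Cocone D} (hc : IsColimit c)

include hc in
lemma colim_exists_rep {Z : C} (x : c.pt.obj Z) :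
    ∃ (n : ℕ) (y : (D.obj n).obj Z), (c.ι.app n).app Z y = x :=
  Types.jointly_surjective_of_isColimit
    (isColimitOfPreserves ((evaluation C (Type u)).obj Z) hc) x

include hc in
lemma colim_eq_iff {Z : C} {n m : ℕ} (y : (D.obj n).obj Z) (y' : (D.obj m).obj Z) :
    (c.ι.app n).app Z y = (c.ι.app m).app Z y' ↔
      ∃ (k : ℕ) (f : n ⟶ k) (g : m ⟶ k), (D.map f).app Z y = (D.map g).app Z y' :=
  Types.FilteredColimit.isColimit_eq_iff _
    (isColimitOfPreserves ((evaluation C (Type u)).obj Z) hc)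

lemma colim_ι_map {Z : C} {n k : ℕ} (f : n ⟶ k) (y : (D.obj n).obj Z) :
    (c.ι.app k).app Z ((D.map f).app Z y) = (c.ι.app n).app Z y := by
  have h := c.w f
  exact congr_hom (congr_app h Z) y

lemma colim_ι_naturality {Z Z' : C} (g : Z ⟶ Z') (n : ℕ) (y : (D.obj n).obj Z) :
    c.pt.map g ((c.ι.app n).app Z y) = (c.ι.app n).app Z' ((D.obj n).map g y) :=
  (congr_hom ((c.ι.app n).naturality g) y).symm

include hc in
theorem isCofiltered_elements_colim (hD : ∀ n, IsCofiltered (D.obj n).Elements) :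
    IsCofiltered c.pt.Elements where
  nonempty := by
    obtain ⟨X⟩ := (hD 0).nonempty
    exact ⟨c.pt.elementsMk X.1 ((c.ι.app 0).app X.1 X.2)⟩
  cone_objs := by
    intro X₁ X₂
    obtain ⟨n₁, y₁, hy₁⟩ := colim_exists_rep hc X₁.2
    obtain ⟨n₂, y₂, hy₂⟩ := colim_exists_rep hc X₂.2
    let k := max n₁ n₂
    let f₁ : n₁ ⟶ k := homOfLE (le_max_left _ _)
    let f₂ : n₂ ⟶ k := homOfLE (le_max_right _ _)
    haveI := hD k
    let E₁ : (D.obj k).Elements := (D.obj k).elementsMk X₁.1 ((D.map f₁).app X₁.1 y₁)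
    let E₂ : (D.obj k).Elements := (D.obj k).elementsMk X₂.1 ((D.map f₂).app X₂.1 y₂)
    let W := IsCofiltered.min E₁ E₂
    let a₁ : W ⟶ E₁ := IsCofiltered.minToLeft E₁ E₂
    let a₂ : W ⟶ E₂ := IsCofiltered.minToRight E₁ E₂
    refine ⟨c.pt.elementsMk W.1 ((c.ι.app k).app W.1 W.2),
      CategoryOfElements.homMk _ _ a₁.1 ?_, CategoryOfElements.homMk _ _ a₂.1 ?_, trivial⟩
    · change c.pt.map a₁.1 ((c.ι.app k).app W.1 W.2) = X₁.2
      rw [colim_ι_naturality, a₁.2]
      change (c.ι.app k).app X₁.1 ((D.map f₁).app X₁.1 y₁) = X₁.2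
      rw [colim_ι_map, hy₁]
    · change c.pt.map a₂.1 ((c.ι.app k).app W.1 W.2) = X₂.2
      rw [colim_ι_naturality, a₂.2]
      change (c.ι.app k).app X₂.1 ((D.map f₂).app X₂.1 y₂) = X₂.2
      rw [colim_ι_map, hy₂]
  cone_maps := by
    intro X₁ X₂ g g'
    obtain ⟨n, y, hy⟩ := colim_exists_rep hc X₁.2
    have e1 : c.pt.map g.1 X₁.2 = X₂.2 := g.2
    have e2 : c.pt.map g'.1 X₁.2 = X₂.2 := g'.2
    have h1 : (c.ι.app n).app X₂.1 ((D.obj n).map g.1 y) =
        (c.ι.app n).app X₂.1 ((D.obj n).map g'.1 y) := by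
      rw [← colim_ι_naturality, ← colim_ι_naturality, hy, e1, e2]
    obtain ⟨k, f, f', hk⟩ := (colim_eq_iff hc _ _).1 h1
    have hff' : f = f' := Subsingleton.elim _ _
    subst hff'
    haveI := hD k
    let y' : (D.obj k).obj X₁.1 := (D.map f).app X₁.1 y
    have hk' : (D.obj k).map g.1 y' = (D.obj k).map g'.1 y' := by
      have n1 := congr_hom ((D.map f).naturality g.1) y
      have n2 := congr_hom ((D.map f).naturality g'.1) y
      dsimp at n1 n2
      change (D.obj k).map g.1 ((D.map f).app X₁.1 y) = (D.obj k).map g'.1 ((D.map f).app X₁.1 y)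
      rw [← n1, ← n2]
      exact hk
    let E₁ : (D.obj k).Elements := (D.obj k).elementsMk X₁.1 y'
    let E₂ : (D.obj k).Elements := (D.obj k).elementsMk X₂.1 ((D.obj k).map g.1 y')
    let G : E₁ ⟶ E₂ := CategoryOfElements.homMk _ _ g.1 rfl
    let G' : E₁ ⟶ E₂ := CategoryOfElements.homMk _ _ g'.1 hk'.symm
    let W := IsCofiltered.eq G G'
    let a : W ⟶ E₁ := IsCofiltered.eqHom G G'
    have ha : a ≫ G = a ≫ G' := IsCofiltered.eq_condition G G'
    refine ⟨c.pt.elementsMk W.1 ((c.ι.app k).app W.1 W.2),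
      CategoryOfElements.homMk _ _ a.1 ?_, ?_⟩
    · change c.pt.map a.1 ((c.ι.app k).app W.1 W.2) = X₁.2
      rw [colim_ι_naturality, a.2]
      change (c.ι.app k).app X₁.1 ((D.map f).app X₁.1 y) = X₁.2
      rw [colim_ι_map, hy]
    · apply CategoryOfElements.ext
      rw [CategoryOfElements.comp_val, CategoryOfElements.comp_val]
      have ha' := congrArg Subtype.val ha
      exact ha'

end Groth.Agent.Helper6.Deligne
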