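import Mathlib

set_option linter.unusedSectionVars false
set_option linter.unusedVariables false
set_option linter.unusedSimpArgs false
set_option autoImplicit false
set_option linter.style.haveILetI false
set_option maxHeartbeats 400000

universe u

noncomputable section

namespace Groth.Agent.Helper6.Deligne

open CategoryTheory CategoryTheory.Limits

variable {C : Type u} [SmallCategory C] (J : GrothendieckTopology C) {X₀ : C} (S₀ : Sieve X₀)

/-- an object over `X₀` is bad if the pullback of `S₀` to it is not covering -/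
def Bad {W : C} (t : W ⟶ X₀) : Prop := S₀.pullback t ∉ J W

variable {J S₀} in
lemma Bad.of_comp {W W' : C} (a : W ⟶ W') (t' : W' ⟶ X₀) (h : Bad J S₀ (a ≫ t')) :
    Bad J S₀ t' := by
  intro h'
  apply h
  rw [Sieve.pullback_comp]
  exact J.pullback_stable a h'

variable {J S₀} in
lemma Bad.not_mem {W : C} (t : W ⟶ X₀) (h : Bad J S₀ t) : ¬ S₀ t := by
  intro h'
  apply h
  have : S₀.pullback t = ⊤ := by
    rw [← Sieve.id_mem_iff_eq_top]
    change S₀ (𝟙 _ ≫ t)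
    rwa [Category.id_comp]
  rw [this]
  exact J.top_mem _

/-- the sieve of arrows belonging to all sieves of a family -/
def iInfSieve {ι : Type*} {Y : C} (R : ι → Sieve Y) : Sieve Y where
  arrows Z h := ∀ i, R i h
  downward_closed := fun hh g i => (R i).downward_closed (hh i) g

lemma iInfSieve_mem {ι : Type*} [Finite ι] {Y : C} (R : ι → Sieve Y) (hR : ∀ i, R i ∈ J Y) :
    iInfSieve R ∈ J Y := by
  revert R
  induction ι using Finite.induction_empty_option with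
  | of_equiv e ih =>
    intro R hR
    refine J.superset_covering ?_ (ih (fun a => R (e a)) (fun a => hR _))
    intro Z h hh i
    obtain ⟨a, rfl⟩ := e.surjective i
    exact hh a
  | h_empty =>
    intro R hR
    refine J.superset_covering ?_ (J.top_mem Y)
    intro Z h _ i
    exact i.elim
  | h_option ih =>
    intro R hR
    refine J.superset_covering ?_
      (J.intersection_covering (hR none) (ih (fun a => R (some a)) (fun a => hR _)))
    intro Z h hh i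
    cases i with
    | none => exact hh.1
    | some a => exact hh.2 a

/-- a finite covering family of an object -/
structure FinCov (Y : C) where
  n : ℕ
  V : Fin (n + 1) → C
  g : ∀ k, V k ⟶ Y
  mem : Sieve.ofArrows V g ∈ J Y

/-- a codirected system of bad objects over `X₀` -/
structure Sys where
  N : Type u
  [inst1 : Preorder N]
  [inst2 : Nonempty N]
  [inst3 : IsCodirectedOrder N]
  F : N ⥤ C
  s : ∀ i, F.obj i ⟶ X₀
  s_comp : ∀ {i j : N} (h : i ≤ j), F.map (homOfLE h) ≫ s j = s i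
  bad : ∀ i, Bad J S₀ (s i)

attribute [instance] Sys.inst1 Sys.inst2 Sys.inst3

variable {J S₀}

/-- a task for a system: a morphism from a member of the system to an object with a finite
covering family -/
structure Task (B : Sys J S₀) where
  i : B.N
  Y : C
  f : B.F.obj i ⟶ Y
  c : FinCov J Y

variable (B : Sys J S₀)

@[reassoc]
lemma Sys.map_comp' {i j k : B.N} (h : i ≤ j) (h' : j ≤ k) :
    B.F.map (homOfLE h) ≫ B.F.map (homOfLE h') = B.F.map (homOfLE (h.trans h')) := by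
  rw [← B.F.map_comp]; rfl

lemma Sys.map_refl (i : B.N) : B.F.map (homOfLE (le_refl i)) = 𝟙 _ := by
  rw [← B.F.map_id]; rfl

/-- labels on a finite set of tasks -/
abbrev Lab (Φ : Finset (Task B)) := ∀ τ : {τ // τ ∈ Φ}, Fin (τ.1.c.n + 1)

variable [HasFiniteLimits C]

/-- the refined object attached to an index, a finite set of tasks and a label -/
abbrev W (j : B.N) (Φ : Finset (Task B)) (hp : ∀ τ ∈ Φ, j ≤ τ.i) (ℓ : Lab B Φ) : C :=
  widePullback (B.F.obj j)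
    (fun τ : {τ // τ ∈ Φ} =>
      pullback (B.F.map (homOfLE (hp τ.1 τ.2)) ≫ τ.1.f) (τ.1.c.g (ℓ τ)))
    (fun τ => pullback.fst _ _)

namespace W

variable {B} {j : B.N} {Φ : Finset (Task B)} {hp : ∀ τ ∈ Φ, j ≤ τ.i} {ℓ : Lab B Φ}

def base : W B j Φ hp ℓ ⟶ B.F.obj j := WidePullback.base _

def proj (τ : {τ // τ ∈ Φ}) : W B j Φ hp ℓ ⟶ τ.1.c.V (ℓ τ) :=
  WidePullback.π _ τ ≫ pullback.snd _ _

lemma proj_comp (τ : {τ // τ ∈ Φ}) :
    (proj τ : W B j Φ hp ℓ ⟶ _) ≫ τ.1.c.g (ℓ τ) =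
      base ≫ B.F.map (homOfLE (hp τ.1 τ.2)) ≫ τ.1.f := by
  dsimp only [proj, base]
  rw [Category.assoc, ← pullback.condition, ← Category.assoc, WidePullback.π_arrow]

def lift {Z : C} (b : Z ⟶ B.F.obj j) (a : ∀ τ : {τ // τ ∈ Φ}, Z ⟶ τ.1.c.V (ℓ τ))
    (h : ∀ τ : {τ // τ ∈ Φ},
      a τ ≫ τ.1.c.g (ℓ τ) = b ≫ B.F.map (homOfLE (hp τ.1 τ.2)) ≫ τ.1.f) :
    Z ⟶ W B j Φ hp ℓ :=
  WidePullback.lift b (fun τ => pullback.lift (b) (a τ) (by rw [h τ]))
    (fun τ => pullback.lift_fst _ _ _)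

@[reassoc (attr := simp)]
lemma lift_base {Z : C} (b : Z ⟶ B.F.obj j) (a : ∀ τ : {τ // τ ∈ Φ}, Z ⟶ τ.1.c.V (ℓ τ))
    (h : ∀ τ : {τ // τ ∈ Φ},
      a τ ≫ τ.1.c.g (ℓ τ) = b ≫ B.F.map (homOfLE (hp τ.1 τ.2)) ≫ τ.1.f) :
    lift b a h ≫ base = b := by
  dsimp only [lift, base]
  rw [WidePullback.lift_base]

@[reassoc (attr := simp)]
lemma lift_proj {Z : C} (b : Z ⟶ B.F.obj j) (a : ∀ τ : {τ // τ ∈ Φ}, Z ⟶ τ.1.c.V (ℓ τ))
    (h : ∀ τ : {τ // τ ∈ Φ},
      a τ ≫ τ.1.c.g (ℓ τ) = b ≫ B.F.map (homOfLE (hp τ.1 τ.2)) ≫ τ.1.f)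
    (τ : {τ // τ ∈ Φ}) :
    lift b a h ≫ proj τ = a τ := by
  dsimp only [lift, proj]
  rw [WidePullback.lift_π_assoc, pullback.lift_snd]

lemma hom_ext {Z : C} {x y : Z ⟶ W B j Φ hp ℓ} (hb : x ≫ base = y ≫ base)
    (hpr : ∀ τ, x ≫ proj τ = y ≫ proj τ) : x = y := by
  apply WidePullback.hom_ext
  · intro τ
    apply pullback.hom_ext
    · rw [Category.assoc, Category.assoc, WidePullback.π_arrow]
      exact hb
    · rw [Category.assoc, Category.assoc]
      exact hpr τ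
  · exact hb

/-- the transition maps between the refined objects -/
def trans {j' : B.N} {Φ' : Finset (Task B)} {hp' : ∀ τ ∈ Φ', j' ≤ τ.i} (hj : j ≤ j')
    (hΦ : Φ' ⊆ Φ) :
    W B j Φ hp ℓ ⟶ W B j' Φ' hp' (fun τ => ℓ ⟨τ.1, hΦ τ.2⟩) :=
  lift (base ≫ B.F.map (homOfLE hj)) (fun τ => proj ⟨τ.1, hΦ τ.2⟩) (fun τ => by
    rw [proj_comp, Category.assoc, Sys.map_comp'_assoc])

@[reassoc (attr := simp)]
lemma trans_base {j' : B.N} {Φ' : Finset (Task B)} {hp' : ∀ τ ∈ Φ', j' ≤ τ.i} (hj : j ≤ j')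
    (hΦ : Φ' ⊆ Φ) :
    (trans hj hΦ : W B j Φ hp ℓ ⟶ W B j' Φ' hp' _) ≫ base = base ≫ B.F.map (homOfLE hj) :=
  lift_base _ _ _

@[reassoc (attr := simp)]
lemma trans_proj {j' : B.N} {Φ' : Finset (Task B)} {hp' : ∀ τ ∈ Φ', j' ≤ τ.i} (hj : j ≤ j')
    (hΦ : Φ' ⊆ Φ) (τ : {τ // τ ∈ Φ'}) :
    (trans hj hΦ : W B j Φ hp ℓ ⟶ W B j' Φ' hp' _) ≫ proj τ = proj ⟨τ.1, hΦ τ.2⟩ :=
  lift_proj _ _ _ τ

end W

variable {B}

/-- for fixed `j` and `Φ`, some label gives a bad refined object -/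
lemma exists_bad_label (j : B.N) (Φ : Finset (Task B)) (hp : ∀ τ ∈ Φ, j ≤ τ.i) :
    ∃ ℓ : Lab B Φ, Bad J S₀ ((W.base : W B j Φ hp ℓ ⟶ _) ≫ B.s j) := by
  by_contra hcon
  push Not at hcon
  have hcon' : ∀ ℓ : Lab B Φ,
      S₀.pullback ((W.base : W B j Φ hp ℓ ⟶ _) ≫ B.s j) ∈ J (W B j Φ hp ℓ) := by
    intro ℓ
    have := hcon ℓ
    unfold Bad at this
    exact not_not.1 this
  apply B.bad j
  let R : {τ // τ ∈ Φ} → Sieve (B.F.obj j) := fun τ =>
    (Sieve.ofArrows τ.1.c.V τ.1.c.g).pullback (B.F.map (homOfLE (hp τ.1 τ.2)) ≫ τ.1.f)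
  have hR : iInfSieve R ∈ J (B.F.obj j) :=
    iInfSieve_mem J R (fun τ => J.pullback_stable _ τ.1.c.mem)
  refine J.transitive hR _ ?_
  intro Z h hh
  have h1 : ∀ τ : {τ // τ ∈ Φ}, ∃ (k : Fin (τ.1.c.n + 1)) (a : Z ⟶ τ.1.c.V k),
      h ≫ B.F.map (homOfLE (hp τ.1 τ.2)) ≫ τ.1.f = a ≫ τ.1.c.g k := fun τ =>
    (Sieve.mem_ofArrows_iff _ _ _).1 (hh τ)
  choose k a ha using h1
  let w : Z ⟶ W B j Φ hp k := W.lift h a (fun τ => (ha τ).symm)
  have hw : w ≫ W.base = h := W.lift_base _ _ _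
  have h2 : (S₀.pullback (B.s j)).pullback h =
      (S₀.pullback ((W.base : W B j Φ hp k ⟶ _) ≫ B.s j)).pullback w := by
    rw [← Sieve.pullback_comp, ← Sieve.pullback_comp, ← Category.assoc, hw]
  rw [h2]
  exact J.pullback_stable w (hcon' k)

/-- for fixed `Φ`, some label gives bad refined objects for all indices -/
lemma exists_bad_label_all (Φ : Finset (Task B)) :
    ∃ ℓ : Lab B Φ, ∀ (j : B.N) (hp : ∀ τ ∈ Φ, j ≤ τ.i),
      Bad J S₀ ((W.base : W B j Φ hp ℓ ⟶ _) ≫ B.s j) := by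
  by_contra hcon
  push Not at hcon
  choose jj hpp hnb using hcon
  obtain ⟨m, hm⟩ := Finite.exists_ge jj
  have hpm : ∀ τ ∈ Φ, m ≤ τ.i := by
    intro τ hτ
    have ℓ₀ : Lab B Φ := fun σ => 0
    exact (hm ℓ₀).trans (hpp ℓ₀ τ hτ)
  obtain ⟨ℓ, hℓ⟩ := exists_bad_label m Φ hpm
  apply hnb ℓ
  have e : (W.trans (hm ℓ) (Finset.Subset.refl Φ) : W B m Φ hpm ℓ ⟶ W B (jj ℓ) Φ (hpp ℓ) _) ≫
      (W.base ≫ B.s (jj ℓ)) = W.base ≫ B.s m := by
    rw [W.trans_base_assoc, B.s_comp]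
  exact Bad.of_comp _ _ (by rw [e]; exact hℓ)

variable (B) in
/-- a global label is good if all the refined objects it defines are bad -/
def IsGood (χ : ∀ τ : Task B, Fin (τ.c.n + 1)) : Prop :=
  ∀ (j : B.N) (Φ : Finset (Task B)) (hp : ∀ τ ∈ Φ, j ≤ τ.i),
    Bad J S₀ ((W.base : W B j Φ hp (fun τ => χ τ.1) ⟶ _) ≫ B.s j)

open Classical in
variable (B) in
lemma exists_isGood : ∃ χ : ∀ τ : Task B, Fin (τ.c.n + 1), IsGood B χ := by
  choose ℓ hℓ using exists_bad_label_all (B := B)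
  obtain ⟨χ, hχ⟩ := Finset.rado_selection_subtype (β := fun τ : Task B => Fin (τ.c.n + 1)) ℓ
  refine ⟨χ, ?_⟩
  intro j Φ hp
  obtain ⟨Φ', hΦ, h⟩ := hχ Φ
  have e : (fun τ : {τ // τ ∈ Φ} => χ τ.1) = fun τ : {τ // τ ∈ Φ} => ℓ Φ' ⟨τ.1, hΦ τ.2⟩ := by
    funext τ
    exact h τ
  rw [e]
  obtain ⟨m, hm⟩ := Finite.exists_ge
    (fun x : Option {τ // τ ∈ Φ'} => x.elim j (fun τ => τ.1.i))
  have hmj : m ≤ j := hm none
  have hpm : ∀ τ ∈ Φ', m ≤ τ.i := fun τ hτ => hm (some ⟨τ, hτ⟩)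
  have hb := hℓ Φ' m hpm
  have e2 : (W.trans hmj hΦ : W B m Φ' hpm (ℓ Φ') ⟶ W B j Φ hp _) ≫ (W.base ≫ B.s j) =
      W.base ≫ B.s m := by
    rw [W.trans_base_assoc, B.s_comp]
  exact Bad.of_comp _ _ (by rw [e2]; exact hb)

section Step

variable (B) (χ : ∀ τ : Task B, Fin (τ.c.n + 1))

/-- the index type of the refined system -/
structure StepN where
  j : B.N
  Φ : Finset (Task B)
  hp : ∀ τ ∈ Φ, j ≤ τ.i

instance : Preorder (StepN B) where
  le p q := p.j ≤ q.j ∧ q.Φ ⊆ p.Φ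
  le_refl p := ⟨le_rfl, Finset.Subset.refl _⟩
  le_trans p q r h h' := ⟨h.1.trans h'.1, h'.2.trans h.2⟩

lemma StepN.le_def (p q : StepN B) : p ≤ q ↔ p.j ≤ q.j ∧ q.Φ ⊆ p.Φ := Iff.rfl

instance : Nonempty (StepN B) := ⟨⟨Classical.arbitrary B.N, ∅, by simp⟩⟩

open Classical in
instance : IsCodirectedOrder (StepN B) := ⟨fun p q => by
  obtain ⟨l, hl, hl'⟩ := exists_le_le p.j q.j
  refine ⟨⟨l, p.Φ ∪ q.Φ, ?_⟩, ⟨hl, Finset.subset_union_left⟩,
    ⟨hl', Finset.subset_union_right⟩⟩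
  intro τ hτ
  rcases Finset.mem_union.1 hτ with h | h
  · exact hl.trans (p.hp τ h)
  · exact hl'.trans (q.hp τ h)⟩

/-- the objects of the refined system -/
abbrev stepObj (p : StepN B) : C := W B p.j p.Φ p.hp (fun τ => χ τ.1)

/-- the transition maps of the refined system -/
def stepMap {p q : StepN B} (h : p ≤ q) : stepObj B χ p ⟶ stepObj B χ q := W.trans h.1 h.2

@[reassoc]
lemma stepMap_base {p q : StepN B} (h : p ≤ q) :
    stepMap B χ h ≫ W.base = W.base ≫ B.F.map (homOfLE h.1) := W.trans_base _ _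

@[reassoc]
lemma stepMap_proj {p q : StepN B} (h : p ≤ q) (τ : {τ // τ ∈ q.Φ}) :
    stepMap B χ h ≫ W.proj τ = W.proj ⟨τ.1, h.2 τ.2⟩ := W.trans_proj _ _ τ

lemma stepMap_refl (p : StepN B) : stepMap B χ (le_refl p) = 𝟙 _ := by
  apply W.hom_ext
  · rw [stepMap_base, Category.id_comp, B.map_refl, Category.comp_id]
  · intro τ
    rw [stepMap_proj, Category.id_comp]

lemma stepMap_trans {p q r : StepN B} (h : p ≤ q) (h' : q ≤ r) :
    stepMap B χ h ≫ stepMap B χ h' = stepMap B χ (h.trans h') := by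
  apply W.hom_ext
  · rw [Category.assoc, stepMap_base, stepMap_base_assoc, stepMap_base, B.map_comp']
  · intro τ
    rw [Category.assoc, stepMap_proj, stepMap_proj, stepMap_proj]

/-- the functor of the refined system -/
def stepF : StepN B ⥤ C where
  obj p := stepObj B χ p
  map {p q} f := stepMap B χ (leOfHom f)
  map_id p := stepMap_refl B χ p
  map_comp {p q r} f g := (stepMap_trans B χ (leOfHom f) (leOfHom g)).symm

/-- the refined system -/
def step (hχ : IsGood B χ) : Sys J S₀ where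
  N := StepN B
  F := stepF B χ
  s p := W.base ≫ B.s p.j
  s_comp {p q} h := by
    change stepMap B χ h ≫ W.base ≫ B.s q.j = W.base ≫ B.s p.j
    rw [stepMap_base_assoc, B.s_comp]
  bad p := hχ p.j p.Φ p.hp

end Step

end Groth.Agent.Helper6.Deligne
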