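import Mathlib

set_option linter.unusedSectionVars false
set_option linter.unusedVariables false
set_option linter.unusedSimpArgs false
set_option autoImplicit false
set_option linter.style.haveILetI false
set_option maxHeartbeats 400000

universe u

noncomputable section

namespace Groth.Agent.Helper6.Deligne

open CategoryTheory CategoryTheory.Limits

variable {C : Type u} [SmallCategory C] {N : Type u} [Preorder N] (F : N ⥤ C)

/-- the generating relation of the colimit of `Hom(F j, Z)` -/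
def URel (Z : C) (a b : Σ j : N, (F.obj j ⟶ Z)) : Prop :=
  ∃ h : b.1 ≤ a.1, b.2 = F.map (homOfLE h) ≫ a.2

/-- the colimit of `Hom(F j, Z)` -/
def UObj (Z : C) : Type u := Quot (URel F Z)

def UObj.mk {Z : C} (j : N) (f : F.obj j ⟶ Z) : UObj F Z := Quot.mk _ ⟨j, f⟩

def UObj.map {Z Z' : C} (g : Z ⟶ Z') : UObj F Z → UObj F Z' :=
  Quot.map (fun a => ⟨a.1, a.2 ≫ g⟩) (by
    rintro ⟨j, f⟩ ⟨j', f'⟩ ⟨h, hh⟩
    dsimp at h hh
    subst hh
    exact ⟨h, by simp⟩)

lemma UObj.map_mk {Z Z' : C} (g : Z ⟶ Z') (j : N) (f : F.obj j ⟶ Z) :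
    UObj.map F g (UObj.mk F j f) = UObj.mk F j (f ≫ g) := rfl

lemma UObj.ind {Z : C} {P : UObj F Z → Prop} (h : ∀ j f, P (UObj.mk F j f)) (x : UObj F Z) :
    P x := by
  induction x using Quot.ind with
  | _ a => exact h a.1 a.2

lemma UObj.mk_surjective {Z : C} (x : UObj F Z) : ∃ j f, UObj.mk F j f = x := by
  induction x using UObj.ind with
  | _ j f => exact ⟨j, f, rfl⟩

lemma UObj.mk_map_comp {Z : C} {j j' : N} (h : j' ≤ j) (f : F.obj j ⟶ Z) :
    UObj.mk F j' (F.map (homOfLE h) ≫ f) = UObj.mk F j f :=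
  (Quot.sound (⟨h, rfl⟩ : URel F Z ⟨j, f⟩ ⟨j', F.map (homOfLE h) ≫ f⟩)).symm

/-- the functor `Z ↦ colim_j Hom(F j, Z)` -/
def U : C ⥤ Type u where
  obj Z := UObj F Z
  map {Z Z'} g := TypeCat.ofHom (UObj.map F g)
  map_id Z := by
    ext x
    induction x using UObj.ind with
    | _ j f =>
      change UObj.map F (𝟙 Z) (UObj.mk F j f) = UObj.mk F j f
      rw [UObj.map_mk, Category.comp_id]
  map_comp {Z₁ Z₂ Z₃} g g' := by
    ext x
    induction x using UObj.ind with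
    | _ j f =>
      change UObj.map F (g ≫ g') (UObj.mk F j f) = UObj.map F g' (UObj.map F g (UObj.mk F j f))
      rw [UObj.map_mk, UObj.map_mk, UObj.map_mk, Category.assoc]

/-- constructor for elements of `U F` -/
def umk {Z : C} (j : N) (f : F.obj j ⟶ Z) : (U F).obj Z := UObj.mk F j f

lemma umk_surjective {Z : C} (x : (U F).obj Z) : ∃ j f, umk F j f = x := UObj.mk_surjective F x

@[simp]
lemma U_map_umk {Z Z' : C} (g : Z ⟶ Z') (j : N) (f : F.obj j ⟶ Z) :
    (U F).map g (umk F j f) = umk F j (f ≫ g) := rfl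

lemma umk_map_comp {Z : C} {j j' : N} (h : j' ≤ j) (f : F.obj j ⟶ Z) :
    umk F j' (F.map (homOfLE h) ≫ f) = umk F j f := UObj.mk_map_comp F h f

variable [IsCodirectedOrder N]

/-- the equivalence relation describing equality in the colimit -/
def UEq (Z : C) (a b : Σ j : N, (F.obj j ⟶ Z)) : Prop :=
  ∃ (l : N) (h : l ≤ a.1) (h' : l ≤ b.1), F.map (homOfLE h) ≫ a.2 = F.map (homOfLE h') ≫ b.2

lemma UEq.refl (Z : C) (a : Σ j : N, (F.obj j ⟶ Z)) : UEq F Z a a := ⟨a.1, le_rfl, le_rfl, rfl⟩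

lemma UEq.symm {Z : C} {a b : Σ j : N, (F.obj j ⟶ Z)} (h : UEq F Z a b) : UEq F Z b a := by
  obtain ⟨l, h1, h2, e⟩ := h
  exact ⟨l, h2, h1, e.symm⟩

lemma UEq.trans {Z : C} {a b c : Σ j : N, (F.obj j ⟶ Z)} (h : UEq F Z a b) (h' : UEq F Z b c) :
    UEq F Z a c := by
  obtain ⟨l, h1, h2, e⟩ := h
  obtain ⟨l', h1', h2', e'⟩ := h'
  obtain ⟨m, hm, hm'⟩ := exists_le_le l l'
  refine ⟨m, hm.trans h1, hm'.trans h2', ?_⟩
  have e1 : F.map (homOfLE (hm.trans h1)) = F.map (homOfLE hm) ≫ F.map (homOfLE h1) := by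
    rw [← F.map_comp]; rfl
  have e2 : F.map (homOfLE (hm'.trans h2')) = F.map (homOfLE hm') ≫ F.map (homOfLE h2') := by
    rw [← F.map_comp]; rfl
  have e3 : F.map (homOfLE hm) ≫ F.map (homOfLE h2) = F.map (homOfLE hm') ≫ F.map (homOfLE h1') := by
    rw [← F.map_comp, ← F.map_comp]; rfl
  rw [e1, e2, Category.assoc, Category.assoc, e, ← e', reassoc_of% e3]

lemma umk_eq_umk_iff {Z : C} (j j' : N) (f : F.obj j ⟶ Z) (f' : F.obj j' ⟶ Z) :
    umk F j f = umk F j' f' ↔
      ∃ (l : N) (h : l ≤ j) (h' : l ≤ j'), F.map (homOfLE h) ≫ f = F.map (homOfLE h') ≫ f' := by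
  constructor
  · intro h
    have h1 : Relation.EqvGen (URel F Z) ⟨j, f⟩ ⟨j', f'⟩ := Quot.eqvGen_exact h
    have h2 : ∀ a b, Relation.EqvGen (URel F Z) a b → UEq F Z a b := by
      intro a b hab
      induction hab with
      | rel a b hab =>
        obtain ⟨h, hh⟩ := hab
        exact ⟨b.1, h, le_rfl, by rw [hh]; simp⟩
      | refl a => exact UEq.refl F Z a
      | symm a b _ ih => exact UEq.symm F ih
      | trans a b c _ _ ih1 ih2 => exact UEq.trans F ih1 ih2
    exact h2 _ _ h1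
  · rintro ⟨l, h, h', e⟩
    rw [← umk_map_comp F h f, ← umk_map_comp F h' f', e]

instance isCofiltered_elements_U [Nonempty N] : IsCofiltered (U F).Elements where
  nonempty := ⟨(U F).elementsMk (F.obj (Classical.arbitrary N)) (umk F _ (𝟙 _))⟩
  cone_objs := by
    intro X₁ X₂
    obtain ⟨j₁, f₁, hf₁⟩ := umk_surjective F X₁.2
    obtain ⟨j₂, f₂, hf₂⟩ := umk_surjective F X₂.2
    obtain ⟨l, h₁, h₂⟩ := exists_le_le j₁ j₂
    refine ⟨(U F).elementsMk (F.obj l) (umk F l (𝟙 _)),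
      CategoryOfElements.homMk _ _ (F.map (homOfLE h₁) ≫ f₁) ?_,
      CategoryOfElements.homMk _ _ (F.map (homOfLE h₂) ≫ f₂) ?_, trivial⟩
    · change (U F).map _ (umk F l (𝟙 _)) = X₁.2
      rw [U_map_umk, Category.id_comp, umk_map_comp, hf₁]
    · change (U F).map _ (umk F l (𝟙 _)) = X₂.2
      rw [U_map_umk, Category.id_comp, umk_map_comp, hf₂]
  cone_maps := by
    intro X₁ X₂ g g'
    obtain ⟨j, f, hf⟩ := umk_surjective F X₁.2
    have h1 : umk F j (f ≫ g.1) = umk F j (f ≫ g'.1) := by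
      have e1 : (U F).map g.1 X₁.2 = X₂.2 := g.2
      have e2 : (U F).map g'.1 X₁.2 = X₂.2 := g'.2
      rw [← U_map_umk, ← U_map_umk, hf, e1, e2]
    obtain ⟨l, h, h', e⟩ := (umk_eq_umk_iff F _ _ _ _).1 h1
    refine ⟨(U F).elementsMk (F.obj l) (umk F l (𝟙 _)),
      CategoryOfElements.homMk _ _ (F.map (homOfLE h) ≫ f) ?_, ?_⟩
    · change (U F).map _ (umk F l (𝟙 _)) = X₁.2
      rw [U_map_umk, Category.id_comp, umk_map_comp, hf]
    · apply CategoryOfElements.ext
      rw [CategoryOfElements.comp_val, CategoryOfElements.comp_val]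
      have e' : F.map (homOfLE h') = F.map (homOfLE h) := rfl
      change (F.map (homOfLE h) ≫ f) ≫ g.1 = (F.map (homOfLE h) ≫ f) ≫ g'.1
      rw [Category.assoc, e, e', Category.assoc]

section Phi

variable {N' : Type u} [Preorder N'] (F' : N' ⥤ C) (e : N → N')
  (β : ∀ j : N, F'.obj (e j) ⟶ F.obj j)
  (he : Monotone e)
  (hβ : ∀ {j j' : N} (h : j' ≤ j),
    F'.map (homOfLE (he h)) ≫ β j = β j' ≫ F.map (homOfLE h))

/-- the map `U F ⟶ U F'` induced by a morphism of systems -/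
def phiMap (Z : C) : UObj F Z → UObj F' Z :=
  Quot.map (fun a => ⟨e a.1, β a.1 ≫ a.2⟩) (by
    rintro ⟨j, f⟩ ⟨j', f'⟩ ⟨h, hh⟩
    dsimp at h hh
    subst hh
    exact ⟨he h, by dsimp; rw [← Category.assoc, ← hβ h, Category.assoc]⟩)

/-- the natural transformation `U F ⟶ U F'` induced by a morphism of systems -/
def phi : U F ⟶ U F' where
  app Z := TypeCat.ofHom (phiMap F F' e β he hβ Z)
  naturality {Z Z'} g := by
    ext x
    induction x using UObj.ind with
    | _ j f =>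
      change phiMap F F' e β he hβ Z' (UObj.map F g (UObj.mk F j f)) =
        UObj.map F' g (phiMap F F' e β he hβ Z (UObj.mk F j f))
      change UObj.mk F' (e j) (β j ≫ f ≫ g) = UObj.mk F' (e j) ((β j ≫ f) ≫ g)
      rw [Category.assoc]

@[simp]
lemma phi_app_umk {Z : C} (j : N) (f : F.obj j ⟶ Z) :
    (phi F F' e β he hβ).app Z (umk F j f) = umk F' (e j) (β j ≫ f) := rfl

end Phi

end Groth.Agent.Helper6.Deligne
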