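import Mathlib
import Groth.Agent.Lib.Helper6.Deligne.UFun
import Groth.Agent.Lib.Helper6.Deligne.SeqColim
import Groth.Agent.Lib.Helper6.Deligne.Sys

set_option linter.unusedSectionVars false
set_option linter.unusedVariables false
set_option linter.unusedSimpArgs false
set_option autoImplicit false
set_option linter.style.haveILetI false
set_option maxHeartbeats 400000

universe u

noncomputable section

namespace Groth.Agent.Helper6.Deligne

open CategoryTheory CategoryTheory.Limits ConcreteCategory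

variable {C : Type u} [SmallCategory C] [HasFiniteLimits C] {J : GrothendieckTopology C}
  {X₀ : C} {S₀ : Sieve X₀}

section Level

variable (B : Sys J S₀)

/-- the distinguished element of the fibre functor of a system -/
def xs : (U B.F).obj X₀ := umk B.F (Classical.arbitrary B.N) (B.s _)

lemma xs_eq (j : B.N) : umk B.F j (B.s j) = xs B := by
  obtain ⟨l, h, h'⟩ := exists_le_le j (Classical.arbitrary B.N)
  dsimp only [xs]
  rw [← umk_map_comp B.F h, ← umk_map_comp B.F h', B.s_comp, B.s_comp]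

/-- the distinguished element does not lift along `S₀` -/
lemma xs_not_lift {Y : C} (g : Y ⟶ X₀) (hg : S₀ g) (y : (U B.F).obj Y) :
    (U B.F).map g y ≠ xs B := by
  intro h
  obtain ⟨j, f, rfl⟩ := umk_surjective B.F y
  rw [U_map_umk, ← xs_eq B j] at h
  obtain ⟨l, h1, h2, e⟩ := (umk_eq_umk_iff B.F _ _ _ _).1 h
  rw [B.s_comp] at e
  apply Bad.not_mem _ (B.bad l)
  rw [← e, ← Category.assoc]
  exact S₀.downward_closed hg _

variable (χ : ∀ τ : Task B, Fin (τ.c.n + 1)) (hχ : IsGood B χ)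

/-- the base projection of a refined object -/
def stepBase (p : StepN B) : stepObj B χ p ⟶ B.F.obj p.j := W.base

/-- the projection of a refined object to a member of a covering -/
def stepProj (p : StepN B) (τ : {τ // τ ∈ p.Φ}) : stepObj B χ p ⟶ τ.1.c.V (χ τ.1) := W.proj τ

lemma stepProj_comp (p : StepN B) (τ : {τ // τ ∈ p.Φ}) :
    stepProj B χ p τ ≫ τ.1.c.g (χ τ.1) =
      stepBase B χ p ≫ B.F.map (homOfLE (p.hp τ.1 τ.2)) ≫ τ.1.f := W.proj_comp τ

lemma stepMap_stepBase {p q : StepN B} (h : p ≤ q) :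
    stepMap B χ h ≫ stepBase B χ q = stepBase B χ p ≫ B.F.map (homOfLE h.1) :=
  stepMap_base B χ h

/-- the embedding of the indices of a system in those of its refinement -/
def stepEmbN (j : B.N) : StepN B := ⟨j, ∅, by simp⟩

/-- the embedding of the indices of a system in those of its refinement -/
def stepEmb (j : B.N) : (step B χ hχ).N := stepEmbN B j

lemma stepEmb_mono : Monotone (stepEmb B χ hχ) := fun j j' h => ⟨h, Finset.Subset.refl _⟩

/-- the comparison maps -/
def stepBeta (j : B.N) : (step B χ hχ).F.obj (stepEmb B χ hχ j) ⟶ B.F.obj j :=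
  stepBase B χ (stepEmbN B j)

lemma stepBeta_nat {j j' : B.N} (h : j' ≤ j) :
    (step B χ hχ).F.map (homOfLE (stepEmb_mono B χ hχ h)) ≫ stepBeta B χ hχ j =
      stepBeta B χ hχ j' ≫ B.F.map (homOfLE h) :=
  stepMap_stepBase B χ (stepEmb_mono B χ hχ h)

/-- the map on fibre functors induced by the refinement -/
def stepPhi : U B.F ⟶ U (step B χ hχ).F :=
  phi B.F (step B χ hχ).F (stepEmb B χ hχ) (stepBeta B χ hχ) (stepEmb_mono B χ hχ)
    (fun h => stepBeta_nat B χ hχ h)

lemma stepPhi_xs : (stepPhi B χ hχ).app X₀ (xs B) = xs (step B χ hχ) := by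
  dsimp only [xs]
  rw [stepPhi, phi_app_umk]
  exact xs_eq (step B χ hχ) (stepEmb B χ hχ (Classical.arbitrary B.N))

open Classical in
/-- the index attached to a task -/
def stepSingle (τ : Task B) : StepN B := ⟨τ.i, {τ}, by simp⟩

open Classical in
/-- tasks are solved in the refinement -/
lemma step_solved (τ : Task B) :
    ∃ x : (U (step B χ hχ).F).obj (τ.c.V (χ τ)),
      (U (step B χ hχ).F).map (τ.c.g (χ τ)) x = (stepPhi B χ hχ).app τ.Y (umk B.F τ.i τ.f) := by
  let p : (step B χ hχ).N := stepSingle B τ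
  let τ' : {σ // σ ∈ (stepSingle B τ).Φ} := ⟨τ, by simp [stepSingle]⟩
  let a : (step B χ hχ).F.obj p ⟶ τ.c.V (χ τ) := stepProj B χ (stepSingle B τ) τ'
  have hle : p ≤ stepEmb B χ hχ τ.i := ⟨le_rfl, Finset.empty_subset _⟩
  refine ⟨umk _ p a, ?_⟩
  rw [U_map_umk, stepPhi, phi_app_umk, ← umk_map_comp (step B χ hχ).F hle]
  congr 1
  have h1 : a ≫ τ.c.g (χ τ) = stepBase B χ (stepSingle B τ) ≫
      B.F.map (homOfLE ((stepSingle B τ).hp τ'.1 τ'.2)) ≫ τ.f :=
    stepProj_comp B χ (stepSingle B τ) τ'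
  have hX : B.F.map (homOfLE ((stepSingle B τ).hp τ'.1 τ'.2)) = 𝟙 (B.F.obj τ.i) :=
    B.map_refl τ.i
  have h2 : (step B χ hχ).F.map (homOfLE hle) ≫ stepBeta B χ hχ τ.i =
      stepBase B χ (stepSingle B τ) ≫ B.F.map (homOfLE hle.1) :=
    stepMap_stepBase B χ hle
  have hX' : B.F.map (homOfLE hle.1) = 𝟙 (B.F.obj τ.i) := B.map_refl τ.i
  have e0 : B.F.map (homOfLE ((stepSingle B τ).hp τ'.1 τ'.2)) ≫ τ.f = τ.f :=
    (congrArg (fun t => t ≫ τ.f) hX).trans (Category.id_comp _)
  have e1 : stepBase B χ (stepSingle B τ) ≫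
      B.F.map (homOfLE ((stepSingle B τ).hp τ'.1 τ'.2)) ≫ τ.f =
      stepBase B χ (stepSingle B τ) ≫ τ.f :=
    congrArg (fun t => stepBase B χ (stepSingle B τ) ≫ t) e0
  have e2 : (step B χ hχ).F.map (homOfLE hle) ≫ stepBeta B χ hχ τ.i =
      stepBase B χ (stepSingle B τ) :=
    h2.trans ((congrArg (fun t => stepBase B χ (stepSingle B τ) ≫ t) hX').trans
      (Category.comp_id _))
  have e3 : (step B χ hχ).F.map (homOfLE hle) ≫ stepBeta B χ hχ τ.i ≫ τ.f =
      stepBase B χ (stepSingle B τ) ≫ τ.f :=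
    (Category.assoc _ _ _).symm.trans (congrArg (fun t => t ≫ τ.f) e2)
  exact h1.trans (e1.trans e3.symm)

end Level

section Seq

variable (B₀ : Sys J S₀)

/-- the sequence of iterated refinements -/
def seq : ℕ → Sys J S₀
  | 0 => B₀
  | n + 1 => step (seq n) (Classical.choose (exists_isGood (seq n)))
      (Classical.choose_spec (exists_isGood (seq n)))

/-- the chosen good label at stage `n` -/
def seqχ (n : ℕ) : ∀ τ : Task (seq B₀ n), Fin (τ.c.n + 1) :=
  Classical.choose (exists_isGood (seq B₀ n))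

lemma seqχ_good (n : ℕ) : IsGood (seq B₀ n) (seqχ B₀ n) :=
  Classical.choose_spec (exists_isGood (seq B₀ n))

lemma seq_succ (n : ℕ) : seq B₀ (n + 1) = step (seq B₀ n) (seqχ B₀ n) (seqχ_good B₀ n) := rfl

/-- the fibre functors of the stages -/
def seqU (n : ℕ) : C ⥤ Type u := U (seq B₀ n).F

/-- the transition maps between the fibre functors -/
def seqPhi (n : ℕ) : seqU B₀ n ⟶ seqU B₀ (n + 1) :=
  stepPhi (seq B₀ n) (seqχ B₀ n) (seqχ_good B₀ n)

/-- the diagram of fibre functors -/
def seqD : ℕ ⥤ (C ⥤ Type u) := Functor.ofSequence (seqPhi B₀)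

lemma seqD_map_succ (n : ℕ) : (seqD B₀).map (homOfLE (Nat.le_add_right n 1)) = seqPhi B₀ n :=
  Functor.ofSequence_map_homOfLE_succ _ n

/-- the distinguished elements at each stage -/
def seqX (n : ℕ) : ((seqD B₀).obj n).obj X₀ := xs (seq B₀ n)

lemma seqPhi_seqX (n : ℕ) : (seqPhi B₀ n).app X₀ (seqX B₀ n) = seqX B₀ (n + 1) :=
  stepPhi_xs (seq B₀ n) (seqχ B₀ n) (seqχ_good B₀ n)

lemma seqD_map_seqX {n k : ℕ} (f : n ⟶ k) :
    ((seqD B₀).map f).app X₀ (seqX B₀ n) = seqX B₀ k := by
  have hnk : n ≤ k := leOfHom f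
  obtain rfl : f = homOfLE hnk := Subsingleton.elim _ _
  induction k, hnk using Nat.le_induction with
  | base =>
    have : homOfLE (le_refl n) = 𝟙 n := rfl
    rw [this, CategoryTheory.Functor.map_id]
    rfl
  | succ k hk ih =>
    have e : homOfLE (hk.trans (Nat.le_succ k)) =
        homOfLE hk ≫ homOfLE (Nat.le_add_right k 1) := rfl
    rw [e, Functor.map_comp, seqD_map_succ]
    change (seqPhi B₀ k).app X₀ (((seqD B₀).map (homOfLE hk)).app X₀ (seqX B₀ n)) = _
    rw [ih, seqPhi_seqX]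

/-- the fibre functor of the point -/
def uInf : C ⥤ Type u := colimit (seqD B₀)

/-- the distinguished element of the fibre functor of the point -/
def xInf : (uInf B₀).obj X₀ := ((colimit.ι (seqD B₀) 0).app X₀) (seqX B₀ 0)

lemma xInf_eq (n : ℕ) : ((colimit.ι (seqD B₀) n).app X₀) (seqX B₀ n) = xInf B₀ := by
  have h := colim_ι_map (c := colimit.cocone (seqD B₀)) (homOfLE (Nat.zero_le n)) (seqX B₀ 0)
  rw [seqD_map_seqX] at h
  exact h

instance : IsCofiltered (uInf B₀).Elements :=
  isCofiltered_elements_colim (colimit.isColimit (seqD B₀))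
    (fun n => (isCofiltered_elements_U (seq B₀ n).F : IsCofiltered (U (seq B₀ n).F).Elements))

/-- the distinguished element does not lift along `S₀` -/
lemma xInf_not_lift {Y : C} (g : Y ⟶ X₀) (hg : S₀ g) (y : (uInf B₀).obj Y) :
    (uInf B₀).map g y ≠ xInf B₀ := by
  intro h
  obtain ⟨n, y', rfl⟩ := colim_exists_rep (colimit.isColimit (seqD B₀)) y
  have h1 := colim_ι_naturality (c := colimit.cocone (seqD B₀)) g n y'
  have h2 : ((colimit.ι (seqD B₀) n).app X₀) (((seqD B₀).obj n).map g y') =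
      ((colimit.ι (seqD B₀) n).app X₀) (seqX B₀ n) := by
    rw [xInf_eq]
    exact h1.symm.trans h
  obtain ⟨k, f, f', hk⟩ := (colim_eq_iff (colimit.isColimit (seqD B₀)) _ _).1 h2
  obtain rfl : f = f' := Subsingleton.elim _ _
  rw [seqD_map_seqX] at hk
  have n1 := congr_hom (((seqD B₀).map f).naturality g) y'
  dsimp at n1
  rw [n1] at hk
  exact xs_not_lift (seq B₀ k) g hg _ hk

end Seq

end Groth.Agent.Helper6.Deligne
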