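import Mathlib
import Groth.Agent.Lib.Helper6.Deligne.Main

set_option linter.unusedSectionVars false
set_option linter.unusedVariables false
set_option linter.unusedSimpArgs false
set_option autoImplicit false
set_option linter.style.haveILetI false
set_option maxHeartbeats 400000

universe u

noncomputable section

namespace Groth.Agent.Helper6.Deligne

open CategoryTheory CategoryTheory.Limits ConcreteCategory

variable {C : Type u} [SmallCategory C] [HasFiniteLimits C] {J : GrothendieckTopology C}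
  {X₀ : C} {S₀ : Sieve X₀}

variable (hJ : ∀ (U : C) (S : Sieve U), S ∈ J U →
  ∃ (n : ℕ) (V : Fin n → C) (g : ∀ k, V k ⟶ U), (∀ k, S (g k)) ∧ Sieve.ofArrows V g ∈ J U)

include hJ in
/-- elements of the fibre functor lift along covering sieves -/
lemma uInf_lift (B₀ : Sys J S₀) {X : C} (R : Sieve X) (hR : R ∈ J X) (x : (uInf B₀).obj X) :
    ∃ (Y : C) (g : Y ⟶ X) (_ : R g) (y : (uInf B₀).obj Y), (uInf B₀).map g y = x := by
  obtain ⟨n, x', rfl⟩ := colim_exists_rep (colimit.isColimit (seqD B₀)) x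
  obtain ⟨j, f, rfl⟩ := umk_surjective (seq B₀ n).F x'
  obtain ⟨n', V, g, hg, hmem⟩ := hJ X R hR
  rcases Nat.eq_zero_or_pos n' with rfl | hpos
  · exfalso
    apply (seq B₀ n).bad j
    have hle : (Sieve.ofArrows V g).pullback f ≤ S₀.pullback ((seq B₀ n).s j) := by
      intro Z h hh
      obtain ⟨k, _⟩ := (Sieve.mem_ofArrows_iff _ _ _).1 hh
      exact k.elim0
    exact J.superset_covering hle (J.pullback_stable f hmem)
  · obtain ⟨m, rfl⟩ : ∃ m, n' = m + 1 := ⟨n' - 1, by omega⟩
    let c : FinCov J X := ⟨m, V, g, hmem⟩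
    let τ : Task (seq B₀ n) := ⟨j, X, f, c⟩
    obtain ⟨y, hy⟩ := step_solved (seq B₀ n) (seqχ B₀ n) (seqχ_good B₀ n) τ
    let y' : ((seqD B₀).obj (n + 1)).obj (V (seqχ B₀ n τ)) := y
    refine ⟨V (seqχ B₀ n τ), g (seqχ B₀ n τ), hg _,
      ((colimit.ι (seqD B₀) (n + 1)).app _) y', ?_⟩
    have h1 := colim_ι_naturality (c := colimit.cocone (seqD B₀)) (g (seqχ B₀ n τ)) (n + 1) y'
    refine h1.trans ?_
    have h2 := colim_ι_map (c := colimit.cocone (seqD B₀)) (homOfLE (Nat.le_add_right n 1))
      (Z := X) (umk (seq B₀ n).F j f)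
    refine Eq.trans ?_ h2
    rw [seqD_map_succ]
    exact congrArg _ hy

/-- the point of the site attached to a system -/
def thePoint (B₀ : Sys J S₀) : GrothendieckTopology.Point.{u} J where
  fiber := uInf B₀
  isCofiltered := inferInstance
  initiallySmall := initiallySmall_of_essentiallySmall _
  jointly_surjective R hR x := uInf_lift hJ B₀ R hR x

/-- the base system attached to a non-covering sieve -/
def baseSys (X₀ : C) (S₀ : Sieve X₀) (h₀ : S₀ ∉ J X₀) : Sys J S₀ where
  N := PUnit.{u + 1}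
  F := (Functor.const _).obj X₀
  s _ := 𝟙 X₀
  s_comp _ := Category.id_comp _
  bad _ := by
    unfold Bad
    rw [Sieve.pullback_id]
    exact h₀

include hJ in
theorem hasEnoughPoints : GrothendieckTopology.HasEnoughPoints.{u} J := by
  let ι : Type u := Σ X : C, {S : Sieve X // S ∉ J X}
  let pt : ι → GrothendieckTopology.Point.{u} J := fun i =>
    thePoint hJ (baseSys i.1 i.2.1 i.2.2)
  let P : ObjectProperty (GrothendieckTopology.Point.{u} J) := ObjectProperty.ofObj pt
  refine ⟨⟨P, inferInstance, ?_⟩⟩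
  apply ObjectProperty.IsConservativeFamilyOfPoints.mk'
  intro X S hS
  by_contra hS'
  let i : ι := ⟨X, S, hS'⟩
  let Φ : P.FullSubcategory := ⟨pt i, ObjectProperty.ofObj_apply pt i⟩
  obtain ⟨Y, g, hg, y, hy⟩ := hS Φ (xInf (baseSys i.1 i.2.1 i.2.2))
  exact xInf_not_lift (baseSys i.1 i.2.1 i.2.2) g hg y hy

end Groth.Agent.Helper6.Deligne
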